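import Groth.Prelude.Def_FSch3
import Groth.Agent.BlowUpLib.Basic

set_option autoImplicit false
set_option linter.style.haveILetI false

/-!
# Completions and base change
-/

namespace Groth.Agent.ClosedImmNhd

universe u

open CategoryTheory CategoryTheory.Limits AlgebraicGeometry

theorem comap_pow_succ {X Y : Scheme.{u}} (K : Y.IdealSheafData) (f : X ⟶ Y) (m : ℕ) :
    (K ^ (m + 1)).comap f = (K.comap f) ^ (m + 1) := by
  induction m with
  | zero => rw [zero_add, pow_one, pow_one]
  | succ m ih => rw [pow_succ K, pow_succ (K.comap f), BlowUpLib.comap_mul, ih]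

theorem isPullback_subschemeMap {X Y : Scheme.{u}} (f : X ⟶ Y) (I : X.IdealSheafData) (K : Y.IdealSheafData)
    (hI : I = K.comap f) (H : K ≤ I.map f) :
    IsPullback I.subschemeι (Scheme.IdealSheafData.subschemeMap I K f H) f K.subschemeι := by
  subst hI
  refine IsPullback.of_iso_pullback ⟨(Scheme.IdealSheafData.subschemeMap_subschemeι _ _ f H).symm⟩ (K.comapIso f) ?_ ?_
  · exact Scheme.IdealSheafData.comapIso_hom_fst K f
  · exact Scheme.IdealSheafData.comapIso_hom_snd K f

theorem isPullback_level {X Y : Scheme.{u}} (f : X ⟶ Y) (K : Y.IdealSheafData)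
    (h : FSch.PowCompat f (K.comap f) K) (n : ℕ) :
    IsPullback (FSch.completionToX X (K.comap f) n)
      ((FSch.completionMap f (K.comap f) K h : FSch.Hom _ _).app n) f (FSch.completionToX Y K n) :=
  isPullback_subschemeMap f _ _ (comap_pow_succ K f n).symm
    (Scheme.IdealSheafData.le_map_iff_comap_le.mpr (h n))

/-- Levelwise cartesian squares of systems are cartesian. -/
theorem isPullback_of_levelwise {P A B C : FSch.Sys.{u}} (p : P ⟶ A) (q : P ⟶ B) (a : A ⟶ C) (b : B ⟶ C)
    (H : ∀ n, IsPullback ((p : FSch.Hom _ _).app n) ((q : FSch.Hom _ _).app n) ((a : FSch.Hom _ _).app n)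
      ((b : FSch.Hom _ _).app n)) : IsPullback p q a b := by
  have w : p ≫ a = q ≫ b := FSch.Hom.ext (funext fun n => (H n).w)
  refine ⟨⟨w⟩, ⟨PullbackCone.IsLimit.mk w ?_ ?_ ?_ ?_⟩⟩
  · intro s
    have ws : ∀ n, ((s.fst : FSch.Hom _ _).app n) ≫ (a : FSch.Hom _ _).app n =
        ((s.snd : FSch.Hom _ _).app n) ≫ (b : FSch.Hom _ _).app n := fun n =>
      congrArg (fun φ : FSch.Hom _ _ => φ.app n) s.condition
    refine ⟨fun n => (H n).lift _ _ (ws n), fun n => ?_⟩
    refine (H (n + 1)).hom_ext ?_ ?_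
    · rw [Category.assoc, Category.assoc, ← (p : FSch.Hom _ _).comm, ← Category.assoc,
        (H n).lift_fst, IsPullback.lift_fst]
      exact (s.fst : FSch.Hom _ _).comm n
    · rw [Category.assoc, Category.assoc, ← (q : FSch.Hom _ _).comm, ← Category.assoc,
        (H n).lift_snd, IsPullback.lift_snd]
      exact (s.snd : FSch.Hom _ _).comm n
  · intro s
    exact FSch.Hom.ext (funext fun n => (H n).lift_fst _ _ _)
  · intro s
    exact FSch.Hom.ext (funext fun n => (H n).lift_snd _ _ _)
  · intro s m h1 h2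
    refine FSch.Hom.ext (funext fun n => (H n).hom_ext ?_ ?_)
    · exact (congrArg (fun φ : FSch.Hom _ _ => φ.app n) h1).trans ((H n).lift_fst _ _ _).symm
    · exact (congrArg (fun φ : FSch.Hom _ _ => φ.app n) h2).trans ((H n).lift_snd _ _ _).symm

end Groth.Agent.ClosedImmNhd
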