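import Mathlib

/-!
Monomorphisms: fibres are points, and quasi-compactness from dense lifting.
-/

set_option autoImplicit false
set_option linter.style.haveILetI false
universe u

open CategoryTheory CategoryTheory.Limits AlgebraicGeometry TopologicalSpace

namespace Groth.Agent.ClosedImmNhd

theorem isIso_fiber_of_mono {X Y : Scheme.{u}} (f : Y ⟶ X) [Mono f] (y : Y) :
    IsIso (f.fiberToSpecResidueField (f y)) := by
  let g := f.fiberToSpecResidueField (f y)
  haveI : Mono g := inferInstanceAs (Mono (pullback.snd _ _))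
  haveI : Nonempty ↥(f.fiber (f y)) := ⟨f.asFiber y⟩
  haveI : Subsingleton ↥(Spec (X.residueField (f y))) := inferInstanceAs (Subsingleton (PrimeSpectrum (X.residueField (f y))))
  haveI : Subsingleton ↥(f.fiber (f y)) := ⟨fun a b => g.injective (Subsingleton.elim _ _)⟩
  haveI : CompactSpace ↥(f.fiber (f y)) := inferInstance
  haveI : QuasiCompact g := (quasiCompact_iff_compactSpace g).2 inferInstance
  haveI : Surjective g := ⟨fun z => ⟨f.asFiber y, Subsingleton.elim _ _⟩⟩
  exact Flat.isIso_of_surjective_of_mono g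

theorem exists_lift_residueField_of_mono {X Y : Scheme.{u}} (f : Y ⟶ X) [Mono f] (y : Y) :
    ∃ l : Spec (X.residueField (f y)) ⟶ Y, l ≫ f = X.fromSpecResidueField (f y) := by
  let g := f.fiberToSpecResidueField (f y)
  haveI : IsIso g := isIso_fiber_of_mono f y
  refine ⟨inv g ≫ f.fiberι (f y), ?_⟩
  rw [Category.assoc, f.fiber_fac, IsIso.inv_hom_id_assoc]

/-- The map on points of a morphism to an affine scheme. -/
noncomputable def pts {R : Type u} [CommRing R] {W : Scheme.{u}} (g : W ⟶ Spec (CommRingCat.of R)) :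
    W → PrimeSpectrum R := fun w => g w

theorem isCompact_preimage_of_denseLift {R : Type u} [CommRing R] [IsNoetherianRing R] {W : Scheme.{u}}
    (g : W ⟶ Spec (CommRingCat.of R)) [Mono g]
    (hc : ∀ (A : Type u) [CommRing A] [IsDomain A] (s : Spec (CommRingCat.of A) ⟶ Spec (CommRingCat.of R)) (D : Set ↥(Spec (CommRingCat.of A))),
        Dense D →
        (∀ p ∈ D, ∃ l : Spec ((Spec (CommRingCat.of A)).residueField p) ⟶ W,
            l ≫ g = (Spec (CommRingCat.of A)).fromSpecResidueField p ≫ s) →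
          ∃ U : (Spec (CommRingCat.of A)).Opens, (U : Set ↥(Spec (CommRingCat.of A))).Nonempty ∧
            ∃ l : (U : Scheme.{u}) ⟶ W, l ≫ g = U.ι ≫ s)
    (T : Closeds (PrimeSpectrum R)) : IsCompact (pts g ⁻¹' (T : Set (PrimeSpectrum R))) := by
  apply wellFounded_lt.induction T
  clear T
  intro T IH
  obtain ⟨S, hS, hirr, hTS⟩ := NoetherianSpace.exists_finite_set_closeds_irreducible T
  have hcoe : (T : Set (PrimeSpectrum R)) = ⋃ t ∈ S, (t : Set (PrimeSpectrum R)) := by
    rw [hTS, ← hS.coe_toFinset, ← Finset.sup_id_eq_sSup, Closeds.coe_finset_sup, Finset.sup_set_eq_biUnion]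
    rfl
  rw [hcoe, Set.preimage_iUnion₂]
  refine hS.isCompact_biUnion fun t ht => ?_
  have htT : t ≤ T := hTS ▸ le_sSup ht
  rcases eq_or_lt_of_le htT with rfl | hlt
  swap
  · exact IH t hlt
  let P := PrimeSpectrum.vanishingIdeal (t : Set (PrimeSpectrum R))
  haveI : P.IsPrime := (PrimeSpectrum.isIrreducible_iff_vanishingIdeal_isPrime).1 (hirr t ht)
  have hrange : Set.range (PrimeSpectrum.comap (Ideal.Quotient.mk P)) = (t : Set (PrimeSpectrum R)) := by
    rw [range_comap_of_surjective _ _ Ideal.Quotient.mk_surjective, Ideal.mk_ker,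
      PrimeSpectrum.zeroLocus_vanishingIdeal_eq_closure, t.isClosed.closure_eq]
  let s : Spec (CommRingCat.of (R ⧸ P)) ⟶ Spec (CommRingCat.of R) := Spec.map (CommRingCat.ofHom (Ideal.Quotient.mk P))
  have hs : IsClosedImmersion s := IsClosedImmersion.spec_of_surjective _ Ideal.Quotient.mk_surjective
  let D : Set ↥(Spec (CommRingCat.of (R ⧸ P))) := s ⁻¹' Set.range g
  by_cases hD : Dense D
  · obtain ⟨U, ⟨u, hu⟩, l, hl⟩ := hc (R ⧸ P) s D hD fun p hp => by
      obtain ⟨y, hy⟩ := hp
      obtain ⟨l, hl⟩ := exists_lift_residueField_of_mono g y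
      refine ⟨Spec.map (s.residueFieldMap p) ≫ Spec.map ((Spec (CommRingCat.of R)).residueFieldCongr hy).hom ≫ l, ?_⟩
      rw [Category.assoc, Category.assoc, hl, Scheme.residueFieldCongr_fromSpecResidueField,
        Scheme.Hom.SpecMap_residueFieldMap_fromSpecResidueField]
    obtain ⟨_, ⟨a, rfl⟩, hua, haU⟩ := PrimeSpectrum.isTopologicalBasis_basic_opens.exists_subset_of_mem_open hu U.2
    let D' : (Spec (CommRingCat.of (R ⧸ P))).Opens := PrimeSpectrum.basicOpen a
    let j := (Spec (CommRingCat.of (R ⧸ P))).homOfLE (show D' ≤ U from haU) ≫ l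
    have hj : j ≫ g = D'.ι ≫ s := by rw [Category.assoc, hl, Scheme.homOfLE_ι_assoc]
    haveI : CompactSpace ↥(D' : Scheme.{u}) := isCompact_iff_compactSpace.1 (PrimeSpectrum.isCompact_basicOpen a)
    let T' : Closeds (PrimeSpectrum R) := ⟨s '' (D' : Set _)ᶜ, hs.isClosedEmbedding.isClosedMap _ D'.2.isClosed_compl⟩
    have hT' : T' < t := by
      refine lt_of_le_of_ne (fun z hz => ?_) fun he => ?_
      · obtain ⟨q, -, rfl⟩ := hz
        exact hrange.le ⟨q, rfl⟩
      · have h1 : s u ∈ (t : Set (PrimeSpectrum R)) := hrange.le ⟨u, rfl⟩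
        rw [← he] at h1
        obtain ⟨q, hq, hqu⟩ := h1
        exact hq (hs.isClosedEmbedding.injective hqu ▸ hua)
    have : pts g ⁻¹' (t : Set (PrimeSpectrum R)) = Set.range j ∪ pts g ⁻¹' (T' : Set (PrimeSpectrum R)) := by
      ext z
      constructor
      · intro hz
        obtain ⟨q', hq⟩ := hrange.ge hz
        let q : ↥(Spec (CommRingCat.of (R ⧸ P))) := q'
        by_cases hqD : q ∈ D'
        · refine Or.inl ⟨⟨q, hqD⟩, g.injective ?_⟩
          rw [← Scheme.Hom.comp_apply, hj]
          exact hq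
        · exact Or.inr ⟨q, hqD, hq⟩
      · rintro (⟨q, rfl⟩ | h)
        · change g (j q) ∈ (t : Set (PrimeSpectrum R))
          rw [← Scheme.Hom.comp_apply, hj]
          exact hrange.le ⟨q.1, rfl⟩
        · exact hT'.le h
    rw [this]
    exact (isCompact_range j.continuous).union (IH T' hT')
  · let T' : Closeds (PrimeSpectrum R) := ⟨s '' closure D, hs.isClosedEmbedding.isClosedMap _ isClosed_closure⟩
    have hT' : T' < t := by
      refine lt_of_le_of_ne (fun z hz => ?_) fun he => hD fun p => ?_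
      · obtain ⟨q, -, rfl⟩ := hz
        exact hrange.le ⟨q, rfl⟩
      · have h1 : s p ∈ (t : Set (PrimeSpectrum R)) := hrange.le ⟨p, rfl⟩
        rw [← he] at h1
        obtain ⟨q, hq, hqp⟩ := h1
        exact hs.isClosedEmbedding.injective hqp ▸ hq
    have : pts g ⁻¹' (t : Set (PrimeSpectrum R)) = pts g ⁻¹' (T' : Set (PrimeSpectrum R)) := by
      refine Set.Subset.antisymm (fun z hz => ?_) (Set.preimage_mono hT'.le)
      obtain ⟨q, hq⟩ := hrange.ge hz
      exact ⟨q, subset_closure ⟨z, hq.symm⟩, hq⟩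
    rw [this]
    exact IH T' hT'

theorem quasiCompact_of_denseLift {X Y : Scheme.{u}} [IsLocallyNoetherian X] (f : Y ⟶ X) [Mono f]
    (hc : ∀ (A : Type u) [CommRing A] [IsDomain A] (s : Spec (CommRingCat.of A) ⟶ X) (D : Set ↥(Spec (CommRingCat.of A))),
        Dense D →
        (∀ p ∈ D, ∃ l : Spec ((Spec (CommRingCat.of A)).residueField p) ⟶ Y,
            l ≫ f = (Spec (CommRingCat.of A)).fromSpecResidueField p ≫ s) →
          ∃ U : (Spec (CommRingCat.of A)).Opens, (U : Set ↥(Spec (CommRingCat.of A))).Nonempty ∧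
            ∃ l : (U : Scheme.{u}) ⟶ Y, l ≫ f = U.ι ≫ s) : QuasiCompact f := by
  rw [quasiCompact_iff_forall_isAffineOpen]
  intro U hU
  haveI : IsNoetherianRing Γ(X, U) := IsLocallyNoetherian.component_noetherian ⟨U, hU⟩
  let g : pullback f hU.fromSpec ⟶ Spec (CommRingCat.of Γ(X, U)) := pullback.snd f hU.fromSpec
  haveI : Mono g := inferInstanceAs (Mono (pullback.snd _ _))
  have h := isCompact_preimage_of_denseLift g (fun A _ _ s D hD hl => by
    obtain ⟨V, hV, l, hl'⟩ := hc A (s ≫ hU.fromSpec) D hD fun p hp => by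
      obtain ⟨l, hl⟩ := hl p hp
      exact ⟨l ≫ pullback.fst f hU.fromSpec, by rw [Category.assoc, pullback.condition, reassoc_of% hl]⟩
    exact ⟨V, hV, pullback.lift l (V.ι ≫ s) (by rw [hl', Category.assoc]), pullback.lift_snd _ _ _⟩) ⊤
  replace h : IsCompact (Set.univ : Set (pullback f hU.fromSpec : Scheme.{u})) := by simpa using h
  have h2 := h.image (pullback.fst f hU.fromSpec).continuous
  rw [Set.image_univ, Scheme.Pullback.range_fst, hU.range_fromSpec] at h2
  exact h2

end Groth.Agent.ClosedImmNhd
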