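import Groth.Agent.ClosedImmNhd.Mono
import Groth.Agent.ClosedImmNhd.Basic
import Groth.Agent.DvrDom.Basic
import Groth.Agent.ImmDescent.Basic

/-!
Quasi-compact monomorphisms locally of finite type satisfying the valuative lifting along traits whose
closed point lifts are immersions.
-/

set_option autoImplicit false
set_option linter.style.haveILetI false
set_option backward.isDefEq.respectTransparency false
universe u

open CategoryTheory CategoryTheory.Limits AlgebraicGeometry TopologicalSpace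

namespace Groth.Agent.ClosedImmNhd

theorem fromSpecResidueField_comp_eq {X Y : Scheme.{u}} (f : Y ⟶ X) {U : X.Opens} (hU : IsAffineOpen U)
    (η : Y) (h : f η ∈ U) :
    Y.fromSpecResidueField η ≫ f =
      Spec.map (X.evaluation U (f η) h ≫ f.residueFieldMap η) ≫ hU.fromSpec := by
  rw [← Scheme.Hom.SpecMap_residueFieldMap_fromSpecResidueField, Spec.map_comp, Category.assoc]
  congr 1
  rw [Scheme.fromSpecResidueField, ← hU.fromSpecStalk_eq_fromSpecStalk h, IsAffineOpen.fromSpecStalk,
    ← Spec.map_comp_assoc]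
  rfl

theorem residueFieldMap_surjective_of_mono {X Y : Scheme.{u}} (f : Y ⟶ X) [Mono f] [LocallyOfFiniteType f] (η : Y) :
    Function.Surjective (f.residueFieldMap η).hom := by
  have hpi : (f.residueFieldMap η).hom.IsPurelyInseparable :=
    ((List.TFAE.out (tfae_universallyInjective (f := f)) 0 2 (a := UniversallyInjective f)
        (b := Function.Injective f ∧ ∀ x, (f.residueFieldMap x).hom.IsPurelyInseparable) rfl rfl).1 inferInstance).2 η
  haveI : FormallyUnramified f := inferInstance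
  letI := (f.residueFieldMap η).hom.toAlgebra
  haveI : IsPurelyInseparable (X.residueField (f η)) (Y.residueField η) := hpi
  exact IsPurelyInseparable.surjective_algebraMap_of_isSeparable _ _

theorem exists_evaluation_div {X : Scheme.{u}} {U : X.Opens} (hU : IsAffineOpen U) {x : X} (hx : x ∈ U)
    (z : X.residueField x) : ∃ c d : Γ(X, U), z = X.evaluation U x hx c / X.evaluation U x hx d := by
  obtain ⟨s, rfl⟩ := X.residue_surjective x z
  letI := TopCat.Presheaf.algebra_section_stalk X.presheaf (⟨x, hx⟩ : U)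
  haveI := hU.isLocalization_stalk ⟨x, hx⟩
  obtain ⟨⟨c, d⟩, h⟩ := IsLocalization.surj (hU.primeIdealOf ⟨x, hx⟩).asIdeal.primeCompl s
  have hd : X.evaluation U x hx d.1 ≠ 0 :=
    ((IsLocalization.map_units (X.presheaf.stalk x) d).map (X.residue x).hom).ne_zero
  refine ⟨c, d.1, (eq_div_iff hd).2 ?_⟩
  have h2 := congrArg (X.residue x).hom h
  rwa [map_mul] at h2

theorem evaluation_eq_zero_iff {X : Scheme.{u}} {U : X.Opens} (hU : IsAffineOpen U) {x : X} (hx : x ∈ U)
    (b : Γ(X, U)) : X.evaluation U x hx b = 0 ↔ b ∈ (hU.primeIdealOf ⟨x, hx⟩).asIdeal := by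
  letI := TopCat.Presheaf.algebra_section_stalk X.presheaf (⟨x, hx⟩ : U)
  haveI := hU.isLocalization_stalk ⟨x, hx⟩
  exact (IsLocalRing.residue_eq_zero_iff _).trans
    (IsLocalization.AtPrime.to_map_mem_maximal_iff (X.presheaf.stalk x) (hU.primeIdealOf ⟨x, hx⟩).asIdeal b)

theorem isImmersion_of_mono_dvrLift {X Y : Scheme.{u}} [IsLocallyNoetherian X] (f : Y ⟶ X) [Mono f]
    [LocallyOfFiniteType f] [QuasiCompact f]
    (hb : ∀ S : ValuativeCommSq f, IsDiscreteValuationRing S.R →
        (∃ l₀ : Spec (CommRingCat.of (IsLocalRing.ResidueField S.R)) ⟶ Y,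
            l₀ ≫ f = Spec.map (CommRingCat.ofHom (IsLocalRing.residue S.R)) ≫ S.i₂) →
          S.commSq.HasLift) : IsImmersion f := by
  haveI : LocallyQuasiFinite f := .of_finite_preimage_singleton f fun y =>
    (Set.finite_singleton y).preimage f.injective.injOn
  let j := f.toNormalization
  let π := f.fromNormalization
  have hjπ : j ≫ π = f := f.toNormalization_fromNormalization
  haveI : IsOpenImmersion j := by
    obtain ⟨U, hU, hUeq⟩ := f.exists_isIso_morphismRestrict_toNormalization
    have htop : j ⁻¹ᵁ U = ⊤ := SetLike.coe_injective (hUeq.trans (Set.eq_univ_of_forall fun y => f.quasiFiniteAt y))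
    haveI : IsOpenImmersion ((j ⁻¹ᵁ U).ι ≫ j) := by rw [← morphismRestrict_ι]; infer_instance
    haveI : IsIso (j ⁻¹ᵁ U).ι := by rw [htop]; exact inferInstanceAs (IsIso Y.topIso.hom)
    have hj : j = inv (j ⁻¹ᵁ U).ι ≫ (j ⁻¹ᵁ U).ι ≫ j := by rw [IsIso.inv_hom_id_assoc]
    rw [hj]
    infer_instance
  have hclaim : ∀ (w : Y) (w'' : f.normalization), π w'' = f w → w'' ∈ Set.range j := by
    intro w w'' hw''
    by_contra hnot
    have hjw : π (j w) = f w := by rw [← Scheme.Hom.comp_apply, hjπ]
    obtain ⟨η, hη⟩ := ImmDescent.exists_specializes_of_mem_closure_range j (y := w'')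
      ((Scheme.Hom.denseRange (f := j)).closure_range ▸ Set.mem_univ _)
    obtain ⟨_, ⟨U, hU, rfl⟩, hxU, -⟩ := X.isBasis_affineOpens.exists_subset_of_mem_open (Set.mem_univ (f w)) isOpen_univ
    haveI : IsNoetherianRing Γ(X, U) := IsLocallyNoetherian.component_noetherian ⟨U, hU⟩
    have hB : IsAffineOpen (π ⁻¹ᵁ U) := hU.preimage π
    have hw''U : w'' ∈ π ⁻¹ᵁ U := by rw [Scheme.Hom.mem_preimage, hw'']; exact hxU
    have hjwU : j w ∈ π ⁻¹ᵁ U := by rw [Scheme.Hom.mem_preimage, hjw]; exact hxU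
    have hjηU : j η ∈ π ⁻¹ᵁ U := hη.mem_open (π ⁻¹ᵁ U).2 hw''U
    let B := Γ(f.normalization, π ⁻¹ᵁ U)
    let γ := π.app U
    have hint : γ.hom.IsIntegral := IsIntegralHom.isIntegral_app π U hU
    let P : ∀ z : f.normalization, z ∈ π ⁻¹ᵁ U → PrimeSpectrum B := fun z hz => hB.primeIdealOf ⟨z, hz⟩
    let Q : ∀ x : X, x ∈ U → PrimeSpectrum Γ(X, U) := fun x hx => hU.primeIdealOf ⟨x, hx⟩
    have hcomap : ∀ z (hz : z ∈ π ⁻¹ᵁ U), PrimeSpectrum.comap γ.hom (P z hz) = Q (π z) hz := fun z hz => by
      apply hU.fromSpec.isOpenEmbedding.injective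
      change hU.fromSpec (Spec.map γ (P z hz)) = hU.fromSpec (hU.primeIdealOf ⟨π z, hz⟩)
      rw [hU.fromSpec_primeIdealOf, ← Scheme.Hom.comp_apply]
      simp only [γ, Scheme.Hom.app_eq_appLE, IsAffineOpen.SpecMap_appLE_fromSpec _ hU hB]
      rw [Scheme.Hom.comp_apply]
      exact congrArg π (hB.fromSpec_primeIdealOf ⟨z, hz⟩)
    have hinjP : ∀ z z' (hz : z ∈ π ⁻¹ᵁ U) (hz' : z' ∈ π ⁻¹ᵁ U), (P z hz).asIdeal = (P z' hz').asIdeal → z = z' :=
      fun z z' hz hz' he => by
        exact (hB.fromSpec_primeIdealOf ⟨z, hz⟩).symm.trans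
          ((congrArg hB.fromSpec (PrimeSpectrum.ext he)).trans (hB.fromSpec_primeIdealOf ⟨z', hz'⟩))
    letI := γ.hom.toAlgebra
    haveI : Algebra.IsIntegral Γ(X, U) B := ⟨hint⟩
    have heqcomap : ∀ z z' (hz : z ∈ π ⁻¹ᵁ U) (hz' : z' ∈ π ⁻¹ᵁ U), (P z hz).asIdeal ≤ (P z' hz').asIdeal →
        π z = π z' → z = z' := fun z z' hz hz' hle he => by
      apply hinjP z z' hz hz'
      by_contra hne
      have h1 : (P z hz).asIdeal.comap γ.hom < (P z' hz').asIdeal.comap γ.hom :=
        Ideal.IsIntegral.comap_lt_comap (R := Γ(X, U)) (lt_of_le_of_ne hle hne)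
      have h2 : Q (π z) hz = Q (π z') hz' := by
        simp only [Q]
        congr 1
        exact Subtype.ext he
      rw [← hcomap, ← hcomap] at h2
      exact h1.ne (congrArg PrimeSpectrum.asIdeal h2)
    have hle : (P (j η) hjηU).asIdeal ≤ (P w'' hw''U).asIdeal := by
      rw [PrimeSpectrum.asIdeal_le_asIdeal, PrimeSpectrum.le_iff_specializes]
      apply hB.fromSpec.isOpenEmbedding.isInducing.specializes_iff.1
      change hB.fromSpec (hB.primeIdealOf ⟨j η, hjηU⟩) ⤳ hB.fromSpec (hB.primeIdealOf ⟨w'', hw''U⟩)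
      rw [hB.fromSpec_primeIdealOf, hB.fromSpec_primeIdealOf]
      exact hη
    obtain ⟨a, ha'', haw⟩ : ∃ a, a ∈ (P w'' hw''U).asIdeal ∧ a ∉ (P (j w) hjwU).asIdeal :=
      SetLike.not_le_iff_exists.1 fun h => hnot ⟨w, (heqcomap _ _ hw''U hjwU h (hw''.trans hjw.symm)).symm⟩
    obtain ⟨c, hc'', hcη⟩ : ∃ c, c ∈ (P w'' hw''U).asIdeal.comap γ.hom ∧ c ∉ (P (j η) hjηU).asIdeal.comap γ.hom := by
      refine SetLike.not_le_iff_exists.1 fun h => hnot ⟨η, ?_⟩
      have h2 : Q (π (j η)) hjηU = Q (π w'') hw''U := by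
        rw [← hcomap, ← hcomap]
        exact PrimeSpectrum.ext (le_antisymm (Ideal.comap_mono hle) h)
      have h3 := congrArg hU.fromSpec h2
      simp only [Q] at h3
      rw [hU.fromSpec_primeIdealOf, hU.fromSpec_primeIdealOf] at h3
      exact heqcomap _ _ hjηU hw''U hle h3
    let K := Y.residueField η
    let ev := f.normalization.evaluation (π ⁻¹ᵁ U) (j η) hjηU ≫ j.residueFieldMap η
    have hfηU : f η ∈ U := by rw [← hjπ]; exact hjηU
    let evA := X.evaluation U (f η) hfηU ≫ f.residueFieldMap η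
    have hevA : γ ≫ ev = evA := by
      apply Spec.map_injective
      rw [← cancel_mono hU.fromSpec, ← fromSpecResidueField_comp_eq f hU η hfηU, Spec.map_comp, Category.assoc]
      simp only [γ, Scheme.Hom.app_eq_appLE, IsAffineOpen.SpecMap_appLE_fromSpec _ hU hB]
      rw [← Category.assoc, ← fromSpecResidueField_comp_eq j hB η hjηU, Category.assoc, hjπ]
    have hker : ∀ b : B, ev.hom b = 0 ↔ b ∈ (P (j η) hjηU).asIdeal := fun b => by
      refine Iff.trans ?_ (evaluation_eq_zero_iff hB hjηU b)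
      change (j.residueFieldMap η).hom ((f.normalization.evaluation (π ⁻¹ᵁ U) (j η) hjηU).hom b) = 0 ↔ (f.normalization.evaluation (π ⁻¹ᵁ U) (j η) hjηU).hom b = 0
      exact map_eq_zero_iff (j.residueFieldMap η).hom (RingHom.injective _)
    let C : Subalgebra Γ(X, U) B := Algebra.adjoin Γ(X, U) {a}
    haveI : IsNoetherianRing C := isNoetherianRing_of_fg (⟨{a}, by simp [C]⟩ : C.FG)
    let χ : C →+* K := ev.hom.comp C.val.toRingHom
    let qC : Ideal C := (P w'' hw''U).asIdeal.comap C.val.toRingHom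
    have hkerle : RingHom.ker χ.rangeRestrict ≤ qC := fun z hz => by
      have hz' : ev.hom (z : B) = 0 := congrArg Subtype.val (RingHom.mem_ker.1 hz)
      exact hle ((hker _).1 hz')
    let qb : Ideal χ.range := qC.map χ.rangeRestrict
    haveI : qb.IsPrime := Ideal.map_isPrime_of_surjective χ.rangeRestrict_surjective hkerle
    have hqb : ∀ z : C, χ.rangeRestrict z ∈ qb ↔ z ∈ qC := fun z => by
      rw [← Ideal.mem_comap, Ideal.comap_map_of_surjective _ χ.rangeRestrict_surjective, ← RingHom.ker_eq_comap_bot,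
        sup_eq_left.2 hkerle]
    haveI : IsNoetherianRing χ.range := isNoetherianRing_of_surjective _ _ χ.rangeRestrict χ.rangeRestrict_surjective
    let L := Localization.AtPrime qb
    have hunits : ∀ y : qb.primeCompl, IsUnit (χ.range.subtype y) := fun y =>
      Ne.isUnit fun h => y.2 ((Subtype.ext h : (y : χ.range) = 0) ▸ qb.zero_mem)
    letI : Algebra L K := (IsLocalization.lift (M := qb.primeCompl) (S := L) hunits).toAlgebra
    haveI : IsDomain L := IsLocalization.isDomain_localization qb.primeCompl_le_nonZeroDivisors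
    have hLK : ∀ z, algebraMap L K (algebraMap χ.range L z) = (z : K) := fun z => IsLocalization.lift_eq _ _
    have hinj : Function.Injective (algebraMap L K) := by
      rw [RingHom.algebraMap_toAlgebra, IsLocalization.lift_injective_iff]
      intro x y
      exact ⟨fun h => congrArg Subtype.val
        ((IsLocalization.injective L qb.primeCompl_le_nonZeroDivisors) h),
        fun h => congrArg _ (Subtype.ext h)⟩
    let cC : C := algebraMap Γ(X, U) C c
    let aC : C := ⟨a, Algebra.self_mem_adjoin_singleton _ a⟩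
    have hcq : χ.rangeRestrict cC ∈ qb := (hqb cC).2 hc''
    have hL : ¬ IsField L := by
      intro hF
      have h1 : algebraMap χ.range L (χ.rangeRestrict cC) ∈ IsLocalRing.maximalIdeal L :=
        (IsLocalization.AtPrime.to_map_mem_maximal_iff L qb _).2 hcq
      rw [IsLocalRing.isField_iff_maximalIdeal_eq.1 hF, Ideal.mem_bot] at h1
      have h2 := congrArg (algebraMap L K) h1
      rw [hLK, map_zero] at h2
      exact hcη ((hker _).1 h2)
    have hcl : Subfield.closure (Set.range (algebraMap L K) ∪ ((∅ : Finset K) : Set K)) = ⊤ := by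
      refine top_le_iff.1 fun z _ => ?_
      obtain ⟨z', rfl⟩ := residueFieldMap_surjective_of_mono f η z
      obtain ⟨c₁, c₂, rfl⟩ := exists_evaluation_div hU hfηU z'
      rw [map_div₀]
      have hmem : ∀ c₀ : Γ(X, U), evA.hom c₀ ∈ Subfield.closure (Set.range (algebraMap L K) ∪ ((∅ : Finset K) : Set K)) := fun c₀ => by
        refine Subfield.subset_closure (Or.inl ⟨algebraMap χ.range L (χ.rangeRestrict (algebraMap Γ(X, U) C c₀)), ?_⟩)
        rw [hLK, ← hevA]
        rfl
      exact Subfield.div_mem _ (hmem c₁) (hmem c₂)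
    obtain ⟨O, hO, hmem, hdom⟩ := DvrDom.exists_dvr L hL hinj (∅ : Finset K) hcl
    have hmemC : ∀ z : C, χ z ∈ O := fun z => by
      have h := hmem (algebraMap χ.range L (χ.rangeRestrict z))
      rwa [hLK] at h
    have hdomC : ∀ z ∈ qC, O.valuation (χ z) < 1 := fun z hz => by
      have h := hdom _ ((IsLocalization.AtPrime.to_map_mem_maximal_iff L qb _).2 ((hqb z).2 hz))
      rwa [hLK] at h
    have hunitC : ∀ z : C, z ∉ qC → IsUnit (⟨χ z, hmemC z⟩ : O) := fun z hz => by
      have hu : IsUnit (algebraMap χ.range L (χ.rangeRestrict z)) :=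
        IsLocalization.map_units L (⟨χ.rangeRestrict z, fun h => hz ((hqb z).1 h)⟩ : qb.primeCompl)
      have h2 := hu.map ((algebraMap L K).codRestrict O.toSubring hmem)
      rw [show (algebraMap L K).codRestrict O.toSubring hmem (algebraMap χ.range L (χ.rangeRestrict z)) =
        (⟨χ z, hmemC z⟩ : O) from Subtype.ext (hLK _)] at h2
      exact h2
    let ρA : Γ(X, U) →+* O := evA.hom.codRestrict O.toSubring fun c₀ => by
      rw [← hevA]
      exact hmemC (algebraMap Γ(X, U) C c₀)
    have hρA : Spec.map (CommRingCat.ofHom ρA) (IsLocalRing.closedPoint O) = Q (f w) hxU := by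
      have hQ : (Q (f w) hxU).asIdeal = (P w'' hw''U).asIdeal.comap γ.hom := by
        have : Q (f w) hxU = Q (π w'') hw''U := by
          simp only [Q]; congr 1; exact Subtype.ext hw''.symm
        rw [this, ← hcomap]; rfl
      apply PrimeSpectrum.ext
      rw [hQ]
      ext c₀
      change ρA c₀ ∈ IsLocalRing.maximalIdeal O ↔ algebraMap Γ(X, U) C c₀ ∈ qC
      have hval : ρA c₀ = (⟨χ (algebraMap Γ(X, U) C c₀), hmemC _⟩ : O) :=
        Subtype.ext (congrArg (fun φ => φ.hom c₀) hevA).symm
      rw [hval]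
      constructor
      · intro h
        by_contra hn
        exact h (hunitC _ hn)
      · intro h
        exact (O.valuation_lt_one_iff _).2 (hdomC _ h)
    let i₂ : Spec (CommRingCat.of O) ⟶ X := Spec.map (CommRingCat.ofHom ρA) ≫ hU.fromSpec
    have hsq : Y.fromSpecResidueField η ≫ f = Spec.map (CommRingCat.ofHom (algebraMap O K)) ≫ i₂ := by
      rw [fromSpecResidueField_comp_eq f hU η hfηU, ← Category.assoc, ← Spec.map_comp]
      rfl
    let S : ValuativeCommSq f := { R := O, K := K, i₁ := Y.fromSpecResidueField η, i₂ := i₂, commSq := ⟨hsq⟩ }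
    have hi₂ : i₂ (IsLocalRing.closedPoint O) = f w := by
      change hU.fromSpec (Spec.map (CommRingCat.ofHom ρA) (IsLocalRing.closedPoint O)) = f w
      rw [hρA]
      exact hU.fromSpec_primeIdealOf _
    have hlift : ∀ (F : Type u) [Field F] (g : Spec (CommRingCat.of F) ⟶ X), g (IsLocalRing.closedPoint F) = f w →
        ∃ l : Spec (CommRingCat.of F) ⟶ Y, l ≫ f = g := by
      intro F _ g hg
      have : ∀ x, x = f w → ∃ l : Spec (X.residueField x) ⟶ Y, l ≫ f = X.fromSpecResidueField x := by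
        rintro x rfl; exact exists_lift_residueField_of_mono f w
      obtain ⟨l, hl⟩ := this _ hg
      refine ⟨Spec.map (Scheme.descResidueField (Scheme.stalkClosedPointTo g)) ≫ l, ?_⟩
      rw [Category.assoc, hl]
      exact Scheme.descResidueField_stalkClosedPointTo_fromSpecResidueField F X g
    obtain ⟨⟨l, hl₁, hl₂⟩⟩ := (hb S hO (hlift _ _ (by
      change i₂ (Spec.map (CommRingCat.ofHom (IsLocalRing.residue O)) (IsLocalRing.closedPoint (IsLocalRing.ResidueField O))) = f w
      haveI : IsLocalHom (IsLocalRing.residue O) := .of_surjective _ IsLocalRing.residue_surjective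
      rw [show Spec.map (CommRingCat.ofHom (IsLocalRing.residue O)) (IsLocalRing.closedPoint (IsLocalRing.ResidueField O)) =
        IsLocalRing.closedPoint O from IsLocalRing.comap_closedPoint (IsLocalRing.residue O)]
      exact hi₂))).exists_lift
    have hlw : l (IsLocalRing.closedPoint O) = w := f.injective (by
      rw [← Scheme.Hom.comp_apply, hl₂]; exact hi₂)
    have hrange : Set.range (l ≫ j) ⊆ Set.range hB.fromSpec := by
      rw [hB.range_fromSpec]
      rintro _ ⟨z, rfl⟩
      change π ((l ≫ j) z) ∈ U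
      rw [← Scheme.Hom.comp_apply, Category.assoc, hjπ, hl₂]
      exact hU.range_fromSpec.le ⟨_, rfl⟩
    let ρ : B ⟶ CommRingCat.of O := Spec.preimage (IsOpenImmersion.lift hB.fromSpec (l ≫ j) hrange)
    have hρ : Spec.map ρ ≫ hB.fromSpec = l ≫ j := by rw [Spec.map_preimage, IsOpenImmersion.lift_fac]
    have hρev : ρ ≫ CommRingCat.ofHom (algebraMap O K) = ev := by
      apply Spec.map_injective
      rw [← cancel_mono hB.fromSpec, ← fromSpecResidueField_comp_eq j hB η hjηU, Spec.map_comp, Category.assoc, hρ,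
        ← Category.assoc]
      congr 1
    have hρP : Spec.map ρ (IsLocalRing.closedPoint O) = P (j w) hjwU := by
      apply hB.fromSpec.isOpenEmbedding.injective
      change hB.fromSpec (Spec.map ρ (IsLocalRing.closedPoint O)) = hB.fromSpec (hB.primeIdealOf ⟨j w, hjwU⟩)
      rw [hB.fromSpec_primeIdealOf, ← Scheme.Hom.comp_apply, hρ, Scheme.Hom.comp_apply, hlw]
    refine haw ?_
    rw [← hρP]
    change ρ.hom a ∈ IsLocalRing.maximalIdeal O
    refine (O.valuation_lt_one_iff _).2 ?_
    have h := hdomC aC ha''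
    rwa [show χ aC = (ρ.hom a : K) from (congrArg (fun φ => φ.hom a) hρev).symm] at h
  have hnhd : ∀ y : Y, ∃ U : X.Opens, f y ∈ U ∧ IsClosedImmersion (f ∣_ U) := fun y => by
    let V : X.Opens := ⟨(π '' (Set.range j)ᶜ)ᶜ,
      (π.isClosedMap _ j.isOpenEmbedding.isOpen_range.isClosed_compl).isOpen_compl⟩
    have hyV : f y ∈ V := fun ⟨z, hz, hzy⟩ => hz (hclaim y z hzy)
    haveI : UniversallyClosed (f ∣_ V) := by
      haveI : Surjective (j ∣_ (π ⁻¹ᵁ V)) := ⟨fun z => by
        obtain ⟨t, ht⟩ : z.1 ∈ Set.range j := by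
          by_contra hn
          exact z.2 ⟨z.1, hn, rfl⟩
        refine ⟨⟨t, show j t ∈ π ⁻¹ᵁ V from ht ▸ z.2⟩, Subtype.ext ?_⟩
        rw [morphismRestrict_base_coe]
        exact ht⟩
      haveI : IsOpenImmersion (j ∣_ (π ⁻¹ᵁ V)) := inferInstance
      haveI : IsIso (j ∣_ (π ⁻¹ᵁ V)) := by
        rw [isIso_iff_isOpenImmersion_and_epi_base]
        refine ⟨inferInstance, ?_⟩
        rw [TopCat.epi_iff_surjective]
        exact Scheme.Hom.surjective _
      haveI : UniversallyClosed (π ∣_ V) := IsZariskiLocalAtTarget.restrict (inferInstance : UniversallyClosed π) _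
      have key : ∀ (g : Y ⟶ X), g = j ≫ π → UniversallyClosed (g ∣_ V) := by
        rintro g rfl
        rw [morphismRestrict_comp]
        infer_instance
      exact key f hjπ.symm
    exact exists_isClosedImmersion_of_fiber f (f y) (Or.inr (isIso_fiber_of_mono f y)) V hyV
  choose U hU hcl using hnhd
  let O : X.Opens := ⨆ y, U y
  haveI : IsClosedImmersion (f ∣_ O) := morphismRestrict_of_forall_nhd @IsClosedImmersion f O fun x hx => by
    obtain ⟨y, hy⟩ := Opens.mem_iSup.1 hx
    exact ⟨U y, hy, hcl y⟩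
  have htop : f ⁻¹ᵁ O = ⊤ := eq_top_iff.2 fun y _ => Opens.mem_iSup.2 ⟨y, hU y⟩
  haveI : IsIso (f ⁻¹ᵁ O).ι := by rw [htop]; exact inferInstanceAs (IsIso Y.topIso.hom)
  have : f = inv (f ⁻¹ᵁ O).ι ≫ (f ∣_ O) ≫ O.ι := by rw [morphismRestrict_ι, IsIso.inv_hom_id_assoc]
  rw [this]
  infer_instance

end Groth.Agent.ClosedImmNhd
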