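import Mathlib

/-!
Proper unramified morphisms which are radicial are closed immersions.
-/

set_option autoImplicit false
set_option backward.isDefEq.respectTransparency false
universe u

open CategoryTheory CategoryTheory.Limits AlgebraicGeometry

namespace Groth.Agent.ClosedImmNhd

theorem isClosedImmersion_of_formallyUnramified {X Y : Scheme.{u}} (f : X ⟶ Y) [IsProper f]
    [FormallyUnramified f] [Surjective (pullback.diagonal f)] : IsClosedImmersion f := by
  rw [IsClosedImmersion.iff_isProper_and_mono]
  refine ⟨inferInstance, ?_⟩
  have : IsIso (pullback.diagonal f) := by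
    rw [isIso_iff_isOpenImmersion_and_epi_base]
    refine ⟨inferInstance, ?_⟩
    rw [TopCat.epi_iff_surjective]
    exact Scheme.Hom.surjective _
  exact (pullback.isIso_diagonal_iff f).1 this

end Groth.Agent.ClosedImmNhd
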